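import Groth.Agent.Duality.FundLocal.Bijective

/-!
# Annihilated cocycles below the length of a regular sequence

If the degree-zero cocycles see every regular sequence on the ring as regular, annihilated cocycles
in degrees smaller than the length are boundaries of annihilated cochains.
-/

set_option autoImplicit false

universe u

namespace Groth.RegImmBelow

open Groth.Duality.FundLocal

variable {A : Type u} [CommRing A] {N : ℕ → Type u} [∀ q, AddCommGroup (N q)] [∀ q, Module A (N q)]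
  {d : ∀ q, N q →ₗ[A] N (q + 1)}

/-- An element regular modulo an ideal is regular on the degree-zero cocycles modulo that ideal. -/
def SeesRegular (d : ∀ q, N q →ₗ[A] N (q + 1)) : Prop :=
  ∀ (J : Ideal A) (x : A), IsSMulRegular (A ⧸ J) x →
    ∀ v : N 0, d 0 v = 0 → x • v ∈ J • LinearMap.ker (d 0) → v ∈ J • LinearMap.ker (d 0)

/-- A finite free module sees every regular element. -/
theorem mem_smul_top_of_smul_mem {n : ℕ} (J : Ideal A) (x : A) (hx : IsSMulRegular (A ⧸ J) x)
    (v : Fin n → A) (hv : ∀ i, x * v i ∈ J) : ∀ i, v i ∈ J := fun i => by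
  rw [← Ideal.Quotient.eq_zero_iff_mem]
  refine hx ?_
  show x • Ideal.Quotient.mk J (v i) = x • 0
  rw [smul_zero, Algebra.smul_def, Ideal.Quotient.algebraMap_eq, ← map_mul]
  exact Ideal.Quotient.eq_zero_iff_mem.2 (hv i)

/-- Free cocycle modules see every regular element. -/
theorem seesRegular_of_equiv {n : ℕ} (e : (Fin n → A) ≃ₗ[A] LinearMap.ker (d 0)) : SeesRegular d := by
  intro J x hx v hv hmem
  have h1 : (J • (⊤ : Submodule A (LinearMap.ker (d 0)))).map (LinearMap.ker (d 0)).subtype =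
      J • LinearMap.ker (d 0) := by
    rw [Submodule.map_smul'', Submodule.map_top, Submodule.range_subtype]
  rw [← h1] at hmem ⊢
  obtain ⟨w, hw, hwv⟩ := hmem
  refine ⟨⟨v, hv⟩, ?_, rfl⟩
  obtain rfl : w = x • ⟨v, hv⟩ := Subtype.ext hwv
  have h2 : ∀ u : LinearMap.ker (d 0), u ∈ J • (⊤ : Submodule A (LinearMap.ker (d 0))) ↔
      ∀ i, e.symm u i ∈ J := by
    intro u
    refine ⟨fun hu i => ?_, fun hu => ?_⟩
    · refine Submodule.smul_induction_on hu (fun a ha y _ => ?_) fun y z hy hz => ?_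
      · rw [map_smul]
        exact J.mul_mem_right _ ha
      · rw [map_add]
        exact J.add_mem hy hz
    · rw [← e.apply_symm_apply u, ← Finset.univ_sum_single (e.symm u), map_sum]
      refine Submodule.sum_mem _ fun i _ => ?_
      rw [show Pi.single i (e.symm u i) = e.symm u i • (Pi.single i 1 : Fin n → A) by
        rw [← Pi.single_smul', smul_eq_mul, mul_one], map_smul]
      exact Submodule.smul_mem_smul (hu i) trivial
  refine (h2 _).2 (mem_smul_top_of_smul_mem J x hx _ fun i => ?_)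
  have := (h2 _).1 hw i
  rwa [map_smul] at this

/-- Pushing a bound one step along a divisible element. -/
theorem isBd_step (hd : IsExactCx d) (hdiv : IsDivisible (A := A) N) {J : Ideal A} (y : A)
    (hreg : IsSMulRegular (A ⧸ J) y) {q : ℕ}
    (ih : ∀ p < q, ∀ z ∈ annCoc d J p, IsBd d J p z) {z : N q} (hy : y • z = 0)
    (hz : IsBd d J q z) :
    IsBd d (Ideal.span {y} ⊔ J) q z := by
  have hann : ∀ {k : ℕ} (w : N k), (∀ a ∈ J, a • w = 0) → y • w = 0 →
      ∀ a ∈ Ideal.span {y} ⊔ J, a • w = 0 := fun w h1 h2 a ha => by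
    obtain ⟨i, hi, j, hj, rfl⟩ := Submodule.mem_sup.1 ha
    obtain ⟨c, rfl⟩ := Ideal.mem_span_singleton'.1 hi
    rw [add_smul, mul_smul, h2, smul_zero, h1 j hj, add_zero]
  cases q with
  | zero => exact hz
  | succ p =>
    obtain ⟨v, hJv, hdv⟩ := hz
    have hb := ih p (Nat.lt_succ_self p) (y • v)
      ⟨by rw [map_smul, hdv, hy], fun a ha => by rw [smul_comm, hJv a ha, smul_zero]⟩
    cases p with
    | zero => exact ⟨v, hann _ hJv hb, hdv⟩
    | succ k =>
      obtain ⟨s, hJs, hds⟩ := hb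
      obtain ⟨s', hJs', hxs'⟩ := hdiv k _ _ hreg s hJs
      refine ⟨v - d k s', hann _ (fun a ha => ?_) ?_, by rw [map_sub, hdv, hd.dd, sub_zero]⟩
      · rw [smul_sub, hJv a ha, ← map_smul, hJs' a ha, map_zero, sub_zero]
      · rw [smul_sub, ← map_smul, hxs', hds, sub_self]

/-- Acyclicity below the length. -/
theorem isBd_of_lt (hd : IsExactCx d) (hdiv : IsDivisible (A := A) N) (hM : SeesRegular d) :
    ∀ (lv : List A), RegList lv → ∀ q < lv.length, ∀ z ∈ annCoc d (Ideal.ofList lv) q,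
      IsBd d (Ideal.ofList lv) q z
  | [], _, q, hq, _, _ => absurd hq (Nat.not_lt_zero q)
  | y :: t, ⟨ht, hy⟩, q, hq, z, hz => by
    have hJI : Ideal.ofList t ≤ Ideal.ofList (y :: t) := by rw [Ideal.ofList_cons]; exact le_sup_right
    have hyI : y ∈ Ideal.ofList (y :: t) := Ideal.subset_span List.mem_cons_self
    have hzJ : z ∈ annCoc d (Ideal.ofList t) q := ⟨hz.1, fun a ha => hz.2 a (hJI ha)⟩
    have ih := isBd_of_lt hd hdiv hM t ht
    have hq' : q ≤ t.length := Nat.lt_succ_iff.1 hq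
    rw [Ideal.ofList_cons]
    refine isBd_step hd hdiv y hy (fun p hp => ih p (lt_of_lt_of_le hp hq')) (hz.2 y hyI) ?_
    rcases hq'.lt_or_eq with hlt | rfl
    · exact ih q hlt z hzJ
    obtain ⟨lJ, hlJ⟩ : ∃ lJ : List (Ideal.ofList t), List.map Subtype.val lJ = t :=
      ⟨t.attach.map fun a => ⟨a.1, Ideal.subset_span a.2⟩, by simp [List.map_map, Function.comp_def]⟩
    obtain ⟨-, -, ihI⟩ := theta_main hd hdiv t ht _ rfl lJ hlJ
    refine ihI ⟨z, hzJ⟩ ?_
    have h0 : y • theta hd (⟨z, hzJ⟩ : annCoc d (Ideal.ofList t) t.length) lJ = 0 := by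
      rw [← theta_smul hd y ⟨z, hzJ⟩ lJ, show (y • (⟨z, hzJ⟩ : annCoc d (Ideal.ofList t) t.length)) =
        (0 : A) • (⟨z, hzJ⟩ : annCoc d (Ideal.ofList t) t.length) from
        Subtype.ext ((hz.2 y hyI).trans (zero_smul A z).symm), theta_smul, zero_smul]
    generalize theta hd (⟨z, hzJ⟩ : annCoc d (Ideal.ofList t) t.length) lJ = m at h0 ⊢
    obtain ⟨⟨v, hv⟩, rfl⟩ := Submodule.Quotient.mk_surjective _ m
    rw [← Submodule.Quotient.mk_smul] at h0
    refine (cl_eq_zero_iff d _ (v := v) hv).2 (hM _ y hy v hv ?_)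
    exact (cl_eq_zero_iff d _ (v := y • v) (by rw [map_smul, LinearMap.mem_ker.1 hv, smul_zero])).1 h0

end Groth.RegImmBelow
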