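import Groth.Agent.RegImmBelow.Algebra
import Groth.Agent.Duality.FundLocal.Global
import Mathlib.CategoryTheory.Abelian.Injective.Ext

/-!
# Vanishing of Ext below the codimension of a regular immersion
-/

set_option autoImplicit false
set_option linter.style.haveILetI false

universe u

open CategoryTheory CategoryTheory.Limits AlgebraicGeometry TopologicalSpace Opposite

noncomputable section

namespace Groth.RegImmBelow

open Groth.Duality.FundLocal
open Groth.PicAux (res tmulSec)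
open Groth.CohBase (Res)
open Groth.CohTwo.SheafHomIso (tF)

variable {P X : Scheme.{u}} (ι : X ⟶ P) [IsClosedImmersion ι]

/-- `m ↦ 1 ⊗ m`. -/
theorem exists_oneTensor (G : P.Modules) : ∃ ρ : G ⟶ CohB1.tensorMod (pushO ι) G,
    ∀ (W : P.Opens) (m : Γ(G, W)), ρ.app W m = tmulSec (oneP ι W) m := by
  obtain ⟨φ, hφ⟩ := Ega2Proj.DirImg.exists_hom_of_basis (L := G) (M := CohB1.tensorMod (pushO ι) G)
    (fun _ => True) (fun _ V hx => ⟨V, trivial, hx, le_rfl⟩)
    (fun U _ =>
      { toFun := fun m => tmulSec (oneP ι U) m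
        map_add' := fun a b => PicAux.tmulSec_add_right _ a b
        map_smul' := fun r a => PicAux.tmulSec_smul_right r _ a })
    (fun U V _ _ h x => by
      show res _ h (tmulSec (oneP ι U) x) = tmulSec (oneP ι V) (res _ h x)
      rw [PicAux.res_tmulSec, res_oneP])
  exact ⟨φ, fun W m => hφ W trivial m⟩

/-- The action of `ι_* O_X` on a pushforward. -/
theorem exists_act (F : X.Modules) :
    ∃ μ : CohB1.tensorMod (pushO ι) ((Scheme.Modules.pushforward ι).obj F) ⟶
        (Scheme.Modules.pushforward ι).obj F,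
      ∀ (W : P.Opens) (m : Γ((Scheme.Modules.pushforward ι).obj F, W)),
        μ.app W (tmulSec (oneP ι W) m) = m := by
  let T : ∀ W : P.Opens, Γ(pushO ι, W) →ₗ[Γ(P, W)] Γ((Scheme.Modules.pushforward ι).obj F, W) →ₗ[Γ(P, W)]
      Γ((Scheme.Modules.pushforward ι).obj F, W) := fun W =>
    LinearMap.mk₂ Γ(P, W)
      (fun a s => (show Γ((Scheme.Modules.pushforward ι).obj F, W) from
        (show Γ(X, ι ⁻¹ᵁ W) from a) • (show Γ(F, ι ⁻¹ᵁ W) from s)))
      (fun a b s => add_smul (show Γ(X, ι ⁻¹ᵁ W) from a) (show Γ(X, ι ⁻¹ᵁ W) from b) (show Γ(F, ι ⁻¹ᵁ W) from s))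
      (fun c a s => mul_smul (ι.app W c) (show Γ(X, ι ⁻¹ᵁ W) from a) (show Γ(F, ι ⁻¹ᵁ W) from s))
      (fun a s t => smul_add (show Γ(X, ι ⁻¹ᵁ W) from a) (show Γ(F, ι ⁻¹ᵁ W) from s) (show Γ(F, ι ⁻¹ᵁ W) from t))
      (fun c a s => smul_comm (show Γ(X, ι ⁻¹ᵁ W) from a) (ι.app W c) (show Γ(F, ι ⁻¹ᵁ W) from s))
  obtain ⟨μ, hμ⟩ := PicAux.exists_tensor_lift T fun W W' h a b =>
    Scheme.Modules.map_smul F _ (show Γ(X, ι ⁻¹ᵁ W) from a) (show Γ(F, ι ⁻¹ᵁ W) from b)
  exact ⟨μ, fun W m => (hμ W _ m).trans (one_smul Γ(X, ι ⁻¹ᵁ W) (show Γ(F, ι ⁻¹ᵁ W) from m))⟩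

variable [DCoh.HasSheafHom (pushO ι)]

/-- Evaluation at one. -/
theorem exists_evalOne (G : P.Modules) : ∃ ev : (DCoh.sheafHom (pushO ι)).obj G ⟶ G,
    ∀ (W : P.Opens) (h : Γ((DCoh.sheafHom (pushO ι)).obj G, W)),
      ev.app W h = Duality.SheafHom.evSec (pushO ι) h (oneP ι W) := by
  obtain ⟨ρ, hρ⟩ := exists_oneTensor ι ((DCoh.sheafHom (pushO ι)).obj G)
  refine ⟨ρ ≫ CohTwo.SheafHomIso.ev (pushO ι) G, fun W h => ?_⟩
  exact congrArg ((CohTwo.SheafHomIso.ev (pushO ι) G).app W) (hρ W h)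

/-- Evaluation at one. -/
def evalOne (G : P.Modules) : (DCoh.sheafHom (pushO ι)).obj G ⟶ G := (exists_evalOne ι G).choose

theorem evalOne_app (G : P.Modules) (W : P.Opens) (h : Γ((DCoh.sheafHom (pushO ι)).obj G, W)) :
    (evalOne ι G).app W h = Duality.SheafHom.evSec (pushO ι) h (oneP ι W) :=
  (exists_evalOne ι G).choose_spec W h

theorem evalOne_naturality {G G' : P.Modules} (p : G ⟶ G') :
    (DCoh.sheafHom (pushO ι)).map p ≫ evalOne ι G' = evalOne ι G ≫ p := by
  refine CohTwo.hom_ext_app fun W h => ?_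
  show (evalOne ι G').app W (((DCoh.sheafHom (pushO ι)).map p).app W h) = p.app W ((evalOne ι G).app W h)
  rw [evalOne_app, evalOne_app, Duality.SheafHom.evSec_map]

/-- Morphisms out of pushforwards factor through the evaluation. -/
theorem exists_factor {F : X.Modules} {G : P.Modules} (g : (Scheme.Modules.pushforward ι).obj F ⟶ G) :
    ∃ g' : (Scheme.Modules.pushforward ι).obj F ⟶ (DCoh.sheafHom (pushO ι)).obj G,
      g' ≫ evalOne ι G = g := by
  obtain ⟨μ, hμ⟩ := exists_act ι F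
  let β : (tF (pushO ι)).obj ((Scheme.Modules.pushforward ι).obj F) ⟶ G := μ ≫ g
  obtain ⟨g', hg'⟩ := ((DCoh.sheafHomAdj (pushO ι)).homEquiv _ G).symm.surjective β
  have e : (tF (pushO ι)).map g' ≫ CohTwo.SheafHomIso.ev (pushO ι) G = β :=
    ((DCoh.sheafHomAdj (pushO ι)).homEquiv_counit _ _ _).symm.trans hg'
  refine ⟨g', CohTwo.hom_ext_app fun W s => ?_⟩
  show (evalOne ι G).app W (g'.app W s) = g.app W s
  rw [evalOne_app]
  have e1 := congrArg ((CohTwo.SheafHomIso.ev (pushO ι) G).app W)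
    (CohTwo.SheafHomIso.tF_map_tmulSec g' W (oneP ι W) s)
  have e2 := congrArg (fun φ => Scheme.Modules.Hom.app φ W (tmulSec (oneP ι W) s)) e
  unfold Duality.SheafHom.evSec
  exact e1.symm.trans (e2.trans (congrArg (g.app W) (hμ W s)))

theorem evalOne_injective (G : P.Modules) {W : P.Opens} (hW : IsAffineOpen W) :
    Function.Injective ((evalOne ι G).app W) := by
  haveI : ModSite.HasSheafHom (O := P.sheaf) (pushO ι) :=
    SitesTopoi.ModH.hasSheafHom (O := P.sheaf) (pushO ι)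
  intro h h' e
  rw [evalOne_app, evalOne_app] at e
  have e' : ev1 ι G W ((cmp ι G).inv.app W h) = ev1 ι G W ((cmp ι G).inv.app W h') := by
    show Duality.SheafHom.evSec (pushO ι) ((cmp ι G).hom.app W ((cmp ι G).inv.app W h)) (oneP ι W) =
      Duality.SheafHom.evSec (pushO ι) ((cmp ι G).hom.app W ((cmp ι G).inv.app W h')) (oneP ι W)
    rwa [app_inv_hom, app_inv_hom]
  have := congrArg ((cmp ι G).hom.app W) (ev1_injective ι G hW e')
  rwa [app_inv_hom, app_inv_hom] at this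

theorem exists_evalOne_eq (G : P.Modules) {W : P.Opens} (hW : IsAffineOpen W) (s : Γ(G, W))
    (hs : ∀ a : Γ(P, W), ι.app W a = 0 → a • s = 0) : ∃ h, (evalOne ι G).app W h = s := by
  haveI : ModSite.HasSheafHom (O := P.sheaf) (pushO ι) :=
    SitesTopoi.ModH.hasSheafHom (O := P.sheaf) (pushO ι)
  obtain ⟨h, hh⟩ := exists_ev1_eq ι G hW s hs
  exact ⟨(cmp ι G).hom.app W h, (evalOne_app ι G W _).trans hh⟩

theorem evalOne_killed (G : P.Modules) (W : P.Opens) (h : Γ((DCoh.sheafHom (pushO ι)).obj G, W))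
    (a : Γ(P, W)) (ha : ι.app W a = 0) : a • (evalOne ι G).app W h = 0 := by
  haveI : ModSite.HasSheafHom (O := P.sheaf) (pushO ι) :=
    SitesTopoi.ModH.hasSheafHom (O := P.sheaf) (pushO ι)
  rw [evalOne_app]
  have e := ev1_killed ι G W ((cmp ι G).inv.app W h) a ha
  rw [← app_inv_hom (cmp ι G) W h]
  exact e

/-- Germs are injective on a basis of opens. -/
theorem mono_of_basis {M N : P.Modules} (φ : M ⟶ N) (B : P.Opens → Prop)
    (hB : ∀ (x : P) (V : P.Opens), x ∈ V → ∃ W, B W ∧ x ∈ W ∧ W ≤ V)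
    (h : ∀ W, B W → ∀ m, φ.app W m = 0 → m = 0) : Mono φ := by
  refine (QCohMod.mono_iff_stalk φ).2 fun y => (injective_iff_map_eq_zero _).2 fun t ht => ?_
  obtain ⟨U, hy, b, rfl⟩ := QCohMod.exists_germ M y t
  have ht' : QCohMod.germ N y hy (φ.app U b) = QCohMod.germ N y hy 0 := by
    rw [map_zero]
    exact (QCohMod.stalk_map_germ φ y hy b).symm.trans ht
  obtain ⟨U', hy', i₁, _, e⟩ := TopCat.Presheaf.germ_eq N.presheaf y hy hy _ _ ht'
  obtain ⟨W, hW, hyW, hWU⟩ := hB y U' hy'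
  have h0 : φ.app W (QCohMod.res M (hWU.trans i₁.le) b) = 0 := by
    rw [← QCohMod.res_app, ← QCohMod.res_res N i₁.le hWU]
    exact (congrArg (QCohMod.res N hWU) (e.trans (map_zero _))).trans (map_zero _)
  refine (QCohMod.germ_res M (hWU.trans i₁.le) y hyW b).symm.trans ?_
  rw [h W hW _ h0]
  exact map_zero _

/-- A complex exact on a basis of opens is exact. -/
theorem exact_of_basis {A B C : P.Modules} (f : A ⟶ B) (g : B ⟶ C) (w : f ≫ g = 0) (Q : P.Opens → Prop)
    (hQ : ∀ (x : P) (V : P.Opens), x ∈ V → ∃ W, Q W ∧ x ∈ W ∧ W ≤ V)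
    (h : ∀ W, Q W → ∀ b, g.app W b = 0 → ∃ a, f.app W a = b) :
    (ShortComplex.mk f g w).Exact := by
  refine (QCohMod.exact_iff_stalk _).2 fun y => (ShortComplex.ab_exact_iff _).2 fun t ht => ?_
  obtain ⟨U, hy, b, rfl⟩ := QCohMod.exists_germ B y t
  have ht' : QCohMod.germ C y hy (g.app U b) = QCohMod.germ C y hy 0 := by
    rw [map_zero]
    exact (QCohMod.stalk_map_germ g y hy b).symm.trans ht
  obtain ⟨U', hy', i₁, _, e⟩ := TopCat.Presheaf.germ_eq C.presheaf y hy hy _ _ ht'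
  obtain ⟨W, hW, hyW, hWU⟩ := hQ y U' hy'
  obtain ⟨a, ha⟩ := h W hW (QCohMod.res B (hWU.trans i₁.le) b) (by
    rw [← QCohMod.res_app, ← QCohMod.res_res C i₁.le hWU]
    exact (congrArg (QCohMod.res C hWU) (e.trans (map_zero _))).trans (map_zero _))
  refine ⟨QCohMod.germ A y hyW a, (QCohMod.stalk_map_germ f y _ a).trans ?_⟩
  rw [ha]
  exact QCohMod.germ_res B _ y _ b

instance mono_evalOne (G : P.Modules) : Mono (evalOne ι G) :=
  mono_of_basis _ (fun W => IsAffineOpen W)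
    (fun x V hx => by
      obtain ⟨_, ⟨W : P.Opens, hW, rfl⟩, hxW, hWV⟩ :=
        P.isBasis_affineOpens.exists_subset_of_mem_open (show x ∈ V from hx) V.2
      exact ⟨W, hW, hxW, hWV⟩)
    fun W hW m hm => evalOne_injective ι G hW (hm.trans (map_zero _).symm)

variable {r : ℕ} {E : P.Modules} (I : InjectiveResolution E)

/-- The differential of annihilated subsheaves. -/
abbrev dA (p : ℕ) : (DCoh.sheafHom (pushO ι)).obj (I.cocomplex.X p) ⟶
    (DCoh.sheafHom (pushO ι)).obj (I.cocomplex.X (p + 1)) :=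
  (DCoh.sheafHom (pushO ι)).map (I.cocomplex.d p (p + 1))

theorem dA_comp (p : ℕ) : dA ι I p ≫ dA ι I (p + 1) = 0 := by
  rw [← cancel_mono (evalOne ι (I.cocomplex.X (p + 1 + 1))), zero_comp, Category.assoc,
    evalOne_naturality, ← Category.assoc, evalOne_naturality, Category.assoc,
    I.cocomplex.d_comp_d, comp_zero]

/-- Opens on which everything is explicit. -/
def Nice (r : ℕ) (E : P.Modules) (W : P.Opens) : Prop :=
  Good ι r W ∧ ∃ n : ℕ, Nonempty ((Fin n → Γ(P, W)) ≃ₗ[Γ(P, W)] Γ(E, W))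

omit [DCoh.HasSheafHom (pushO ι)] in
theorem exists_nice (hι : RegImm.IsRegularImmersionOfCodim RegImm.Kind.regular r ι)
    (hE : FlatMod.IsFinLocFree E) (x : P) (V : P.Opens) (hx : x ∈ V) :
    ∃ W, Nice ι r E W ∧ x ∈ W ∧ W ≤ V := by
  obtain ⟨U, n, s, hxU, hs⟩ := PicAux.exists_basis_of_isFinLocFree hE x
  obtain ⟨W, hW, hxW, hWV⟩ := exists_good ι hι x (V ⊓ U) ⟨hx, hxU⟩
  refine ⟨W, ⟨hW, n, ⟨LinearEquiv.ofBijective
    { toFun := fun r => ∑ i, r i • res E (hWV.trans inf_le_right) (s i)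
      map_add' := fun a b => by simp only [Pi.add_apply, add_smul, Finset.sum_add_distrib]
      map_smul' := fun a b => by
        simp only [Pi.smul_apply, smul_eq_mul, mul_smul, RingHom.id_apply, Finset.smul_sum] }
    (hs W (hWV.trans inf_le_right))⟩⟩, hxW, hWV.trans inf_le_left⟩

omit [DCoh.HasSheafHom (pushO ι)] in
/-- Annihilated cocycles on nice opens in low degree are boundaries. -/
theorem isBd_nice (hE : FlatMod.IsFinLocFree E) {W : P.Opens} (hW : Nice ι r E W) {q : ℕ}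
    (hq : q < r) (z : NU (resI I) W q) (hz : z ∈ annCoc (dU (resI I) W) (IU ι W) q) :
    IsBd (dU (resI I) W) (IU ι W) q z := by
  haveI : (resI I).Y.IsQuasicoherent := KTheory.LocFree.isQCoh hE
  obtain ⟨⟨hA, hcase⟩, n, ⟨e⟩⟩ := hW
  rcases hcase with ⟨rs, hlen, hreg, hI⟩ | hbot
  · have h := RegImmBelow.isBd_of_lt (isExactCx (R := resI I) (U := W) (CohBase.flasque_ofInjective I) hA)
      (isDivisible (R := resI I) (U := W) (fun q => I.injective q) hA)
      (RegImmBelow.seesRegular_of_equiv (e.trans (toKer (R := resI I) (U := W))))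
      rs.reverse (regList_reverse hreg) q (by rw [List.length_reverse, hlen]; exact hq) z
    have e' : Ideal.ofList rs.reverse = IU ι W := by rw [hI]; simp [Ideal.ofList]
    rw [e'] at h
    exact h hz
  · have h1 : (1 : Γ(P, W)) ∈ IU ι W := by
      rw [RingHom.mem_ker]
      haveI : Subsingleton Γ(X, ι ⁻¹ᵁ W) := by rw [hbot]; infer_instance
      exact Subsingleton.elim _ _
    obtain rfl : z = 0 := by rw [← one_smul Γ(P, W) z]; exact hz.2 _ h1
    cases q with
    | zero => exact rfl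
    | succ p => exact ⟨0, fun a _ => smul_zero a, map_zero _⟩

theorem mono_dA (hι : RegImm.IsRegularImmersionOfCodim RegImm.Kind.regular r ι)
    (hE : FlatMod.IsFinLocFree E) (hr : 0 < r) : Mono (dA ι I 0) := by
  refine mono_of_basis _ (Nice ι r E) (exists_nice ι hι hE) fun W hW m hm => ?_
  refine evalOne_injective ι _ hW.1.1 ?_
  rw [map_zero]
  refine isBd_nice ι I hE hW hr _ ⟨?_, fun a ha => evalOne_killed ι _ W m a ha⟩
  show (I.cocomplex.d 0 1).app W ((evalOne ι _).app W m) = 0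
  have := congrArg (fun φ => Scheme.Modules.Hom.app φ W m) (evalOne_naturality ι (I.cocomplex.d 0 1))
  refine this.symm.trans ?_
  show (evalOne ι _).app W ((dA ι I 0).app W m) = 0
  rw [hm, map_zero]

theorem exact_dA (hι : RegImm.IsRegularImmersionOfCodim RegImm.Kind.regular r ι)
    (hE : FlatMod.IsFinLocFree E) (p : ℕ) (hp : p + 1 < r) :
    (ShortComplex.mk (dA ι I p) (dA ι I (p + 1)) (dA_comp ι I p)).Exact := by
  refine exact_of_basis _ _ _ (Nice ι r E) (exists_nice ι hι hE) fun W hW m hm => ?_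
  obtain ⟨w, hw, hdw⟩ := isBd_nice ι I hE hW hp ((evalOne ι _).app W m)
    ⟨by
      show (I.cocomplex.d (p + 1) (p + 1 + 1)).app W ((evalOne ι _).app W m) = 0
      have := congrArg (fun φ => Scheme.Modules.Hom.app φ W m)
        (evalOne_naturality ι (I.cocomplex.d (p + 1) (p + 1 + 1)))
      refine this.symm.trans ?_
      show (evalOne ι _).app W ((dA ι I (p + 1)).app W m) = 0
      rw [hm, map_zero], fun a ha => evalOne_killed ι _ W m a ha⟩
  obtain ⟨h, hh⟩ := exists_evalOne_eq ι (I.cocomplex.X p) hW.1.1 w fun a ha => hw a ha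
  refine ⟨h, evalOne_injective ι _ hW.1.1 ?_⟩
  refine (congrArg (fun φ => Scheme.Modules.Hom.app φ W h) (evalOne_naturality ι (I.cocomplex.d p (p + 1)))).trans ?_
  show (I.cocomplex.d p (p + 1)).app W ((evalOne ι _).app W h) = _
  rw [hh]
  exact hdw

/-- Partial contracting homotopy of the evaluation. -/
theorem exists_homotopy (hι : RegImm.IsRegularImmersionOfCodim RegImm.Kind.regular r ι)
    (hE : FlatMod.IsFinLocFree E) (p : ℕ) (hp : p < r) :
    (∃ t : (DCoh.sheafHom (pushO ι)).obj (I.cocomplex.X (p + 1)) ⟶ I.cocomplex.X p,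
      dA ι I p ≫ evalOne ι _ = dA ι I p ≫ t ≫ I.cocomplex.d p (p + 1)) ∧
      ∀ (T : P.Modules) (g : T ⟶ (DCoh.sheafHom (pushO ι)).obj (I.cocomplex.X p)),
        g ≫ dA ι I p = 0 → g ≫ evalOne ι _ = 0 ∨
          ∃ k, ∃ h : T ⟶ I.cocomplex.X k, k + 1 = p ∧ h ≫ I.cocomplex.d k p = g ≫ evalOne ι _ := by
  induction p with
  | zero =>
    haveI := mono_dA ι I hι hE hp
    haveI : Injective (I.cocomplex.X 0) := I.injective 0
    refine ⟨⟨Injective.factorThru (evalOne ι _) (dA ι I 0), ?_⟩, fun T g hg => Or.inl ?_⟩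
    · rw [← Category.assoc (dA ι I 0), Injective.comp_factorThru, evalOne_naturality]
    · rw [show g = 0 from (cancel_mono (dA ι I 0)).1 (hg.trans zero_comp.symm), zero_comp]
  | succ p ih =>
    obtain ⟨⟨t, ht⟩, -⟩ := ih (Nat.lt_of_succ_lt hp)
    haveI : Injective (I.cocomplex.X (p + 1)) := I.injective (p + 1)
    have hx := exact_dA ι I hι hE p hp
    let φ := evalOne ι (I.cocomplex.X (p + 1)) - t ≫ I.cocomplex.d p (p + 1)
    have hφ : dA ι I p ≫ φ = 0 := by
      rw [Preadditive.comp_sub, ht, sub_self]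
    let t' := hx.descToInjective φ hφ
    have ht' : dA ι I (p + 1) ≫ t' = φ := hx.comp_descToInjective φ hφ
    refine ⟨⟨t', ?_⟩, fun T g hg => Or.inr ⟨p, g ≫ t, rfl, ?_⟩⟩
    · rw [← Category.assoc (dA ι I (p + 1)), ht', Preadditive.sub_comp, Category.assoc,
        I.cocomplex.d_comp_d, comp_zero, sub_zero, evalOne_naturality]
    · have e : g ≫ φ = 0 := by rw [← ht', ← Category.assoc, hg, zero_comp]
      rw [Preadditive.comp_sub, sub_eq_zero] at e
      rw [e, Category.assoc]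

omit [DCoh.HasSheafHom (pushO ι)] in
/-- `Ext^q(ι_* F, E) = 0` below the codimension. -/
theorem subsingleton_ext [HasExt.{u} P.Modules] [EnoughInjectives P.Modules]
    (hι : RegImm.IsRegularImmersionOfCodim RegImm.Kind.regular r ι)
    (hE : FlatMod.IsFinLocFree E) (F : X.Modules) (q : ℕ) (hq : q < r) :
    Subsingleton (Abelian.Ext ((Scheme.Modules.pushforward ι).obj F) E q) := by
  haveI : DCoh.HasSheafHom (pushO ι) := CohTwo.LocFreeExt.hasSheafHom _
  let I := injectiveResolution E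
  refine subsingleton_of_forall_eq 0 fun α => ?_
  obtain ⟨f, hf, rfl⟩ := I.extMk_surjective α (q + 1) rfl
  obtain ⟨g, hg⟩ := exists_factor ι f
  have hgd : g ≫ dA ι I q = 0 := by
    rw [← cancel_mono (evalOne ι _), zero_comp, Category.assoc, evalOne_naturality,
      ← Category.assoc, hg, hf]
  rcases (exists_homotopy ι I hι hE q hq).2 _ g hgd with h0 | ⟨k, h, hk, he⟩
  · obtain rfl : f = 0 := hg.symm.trans h0
    exact I.extMk_zero (q + 1) rfl
  · exact (I.extMk_eq_zero_iff f (q + 1) rfl hf k hk).2 ⟨h, he.trans hg⟩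

end Groth.RegImmBelow
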